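import Groth.Agent.Lib.Helper67.DepthAlg
import Groth.Agent.Lib.Helper67.Depth2
import Mathlib

/-!
Depth of localizations along a finite ring map.
-/

set_option autoImplicit false
universe u

namespace Groth.Agent.Lib.Helper39.Cutoff

open Groth.Agent.Lib.Helper67 LocCoh

section Generic

/-- The depth of any model of the localization of a finite module at a prime agrees with the
depth of the standard model. -/
theorem depth_eq_of_isLocalizedModule {R : Type u} [CommRing R] [IsNoetherianRing R]
    (p : Ideal R) [p.IsPrime]
    (M : Type u) [AddCommGroup M] [Module R M] [Module.Finite R M]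
    (T : Type u) [CommRing T] [Algebra R T] [IsLocalization.AtPrime T p] [IsLocalRing T]
    (N : Type u) [AddCommGroup N] [Module R N] [Module T N] [IsScalarTower R T N]
    (f : M →ₗ[R] N) [IsLocalizedModule p.primeCompl f] :
    LocCoh.depth T N =
      LocCoh.depth (Localization.AtPrime p) (LocalizedModule p.primeCompl M) := by
  let e : Localization.AtPrime p ≃ₐ[R] T :=
    IsLocalization.algEquiv p.primeCompl (Localization.AtPrime p) T
  letI algLT : Algebra (Localization.AtPrime p) T := (e : Localization.AtPrime p →+* T).toAlgebra
  have halg : ∀ x, algebraMap (Localization.AtPrime p) T x = e x := fun x => rfl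
  haveI : IsScalarTower R (Localization.AtPrime p) T :=
    IsScalarTower.of_algebraMap_eq (fun r => by rw [halg, e.commutes])
  letI modLN : Module (Localization.AtPrime p) N :=
    Module.compHom N (algebraMap (Localization.AtPrime p) T)
  haveI : IsScalarTower (Localization.AtPrime p) T N :=
    IsScalarTower.of_algebraMap_smul (fun r m => rfl)
  haveI : IsScalarTower R (Localization.AtPrime p) N := by
    apply IsScalarTower.of_algebraMap_smul
    intro r m
    change algebraMap (Localization.AtPrime p) T (algebraMap R (Localization.AtPrime p) r) • m = _
    rw [← IsScalarTower.algebraMap_apply R (Localization.AtPrime p) T, algebraMap_smul]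
  haveI : Module.Finite (Localization.AtPrime p) T :=
    Module.Finite.of_surjective (Algebra.linearMap (Localization.AtPrime p) T) e.surjective
  haveI : Module.Finite T N := Module.Finite.of_isLocalizedModule p.primeCompl (Rₚ := T) f
  have h1 := idealDepth_eq_idealDepth_map_of_finite (A := Localization.AtPrime p) (B := T)
    (IsLocalRing.maximalIdeal (Localization.AtPrime p)) N
  have hmap : (IsLocalRing.maximalIdeal (Localization.AtPrime p)).map
      (algebraMap (Localization.AtPrime p) T) = IsLocalRing.maximalIdeal T := by
    have hbij : Function.Bijective (algebraMap (Localization.AtPrime p) T) := e.bijective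
    rcases Ideal.map_eq_top_or_isMaximal_of_surjective
      (algebraMap (Localization.AtPrime p) T) hbij.2
      (IsLocalRing.maximalIdeal.isMaximal (Localization.AtPrime p)) with h | h
    · exfalso
      have h2 := congrArg (Ideal.comap (algebraMap (Localization.AtPrime p) T)) h
      rw [Ideal.comap_map_of_bijective _ hbij, Ideal.comap_top] at h2
      exact (IsLocalRing.maximalIdeal.isMaximal (Localization.AtPrime p)).ne_top h2
    · exact IsLocalRing.eq_maximalIdeal h
  rw [hmap] at h1
  let φ₀ : LocalizedModule p.primeCompl M ≃ₗ[R] N := IsLocalizedModule.iso p.primeCompl f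
  let φ : LocalizedModule p.primeCompl M ≃ₗ[Localization.AtPrime p] N :=
    φ₀.extendScalarsOfIsLocalization p.primeCompl (Localization.AtPrime p)
  have h2 : LocCoh.depth (Localization.AtPrime p) (LocalizedModule p.primeCompl M) =
      LocCoh.depth (Localization.AtPrime p) N := depth_congr φ
  rw [h2]
  exact h1.symm

end Generic

section Congr

theorem depth_atPrime_congr {B : Type u} [CommRing B] (M : Type u) [AddCommGroup M] [Module B M]
    (I J : Ideal B) [hI : I.IsPrime] [hJ : J.IsPrime] (h : I = J) :
    LocCoh.depth (Localization.AtPrime I) (LocalizedModule I.primeCompl M) =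
      LocCoh.depth (Localization.AtPrime J) (LocalizedModule J.primeCompl M) := by
  subst h
  rfl

end Congr

section Iterated

variable {B : Type u} [CommRing B] [IsNoetherianRing B] (S : Submonoid B)
  (M : Type u) [AddCommGroup M] [Module B M] [Module.Finite B M]

/-- Localizing a localization of `B` at a prime `P` gives the localization of `B` at the
contraction of `P`; the depths of the corresponding localized modules agree. -/
theorem depth_localization_localization (P : Ideal (Localization S)) [P.IsPrime]
    [(P.comap (algebraMap B (Localization S))).IsPrime] :
    LocCoh.depth (Localization.AtPrime P)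
        (LocalizedModule P.primeCompl (LocalizedModule S M)) =
      LocCoh.depth (Localization.AtPrime (P.comap (algebraMap B (Localization S))))
        (LocalizedModule (P.comap (algebraMap B (Localization S))).primeCompl M) := by
  haveI hloc : IsLocalization.AtPrime (Localization.AtPrime P)
      (P.comap (algebraMap B (Localization S))) :=
    IsLocalization.isLocalization_isLocalization_atPrime_isLocalization S
      (Localization.AtPrime P) P
  have h1 : IsBaseChange (Localization S) (LocalizedModule.mkLinearMap S M) :=
    LocalizedModule.isBaseChange S M
  have h2 : IsBaseChange (Localization.AtPrime P)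
      (LocalizedModule.mkLinearMap P.primeCompl (LocalizedModule S M)) :=
    LocalizedModule.isBaseChange P.primeCompl (LocalizedModule S M)
  have h3 := IsBaseChange.comp h1 h2
  haveI : IsLocalizedModule (P.comap (algebraMap B (Localization S))).primeCompl
      (((LocalizedModule.mkLinearMap P.primeCompl (LocalizedModule S M)).restrictScalars B).comp
        (LocalizedModule.mkLinearMap S M)) :=
    (isLocalizedModule_iff_isBaseChange (P.comap (algebraMap B (Localization S))).primeCompl
      (Localization.AtPrime P) _).mpr h3
  exact depth_eq_of_isLocalizedModule (P.comap (algebraMap B (Localization S))) M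
    (Localization.AtPrime P) (LocalizedModule P.primeCompl (LocalizedModule S M))
    (((LocalizedModule.mkLinearMap P.primeCompl (LocalizedModule S M)).restrictScalars B).comp
        (LocalizedModule.mkLinearMap S M))

end Iterated

section Semilocal

variable {A B : Type u} [CommRing A] [CommRing B] [Algebra A B] [IsNoetherianRing A]
  [IsNoetherianRing B] [Module.Finite A B]
  (M : Type u) [AddCommGroup M] [Module B M] [Module A M] [IsScalarTower A B M]
  [Module.Finite B M] (p : Ideal A) [p.IsPrime]

/-- The depth of `M_p` over `A_p` is the depth of the localization of `M` over the semilocal ring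
`B_p` with respect to the extension of the maximal ideal of `A_p`. -/
theorem depth_localization_eq_idealDepth :
    LocCoh.depth (Localization.AtPrime p) (LocalizedModule p.primeCompl M) =
      idealDepth ((IsLocalRing.maximalIdeal (Localization.AtPrime p)).map
        (algebraMap (Localization.AtPrime p)
          (Localization (Algebra.algebraMapSubmonoid B p.primeCompl))))
        (LocalizedModule (Algebra.algebraMapSubmonoid B p.primeCompl) M) := by
  haveI : Module.Finite A M := Module.Finite.trans B M
  letI modN : Module (Localization.AtPrime p)
      (LocalizedModule (Algebra.algebraMapSubmonoid B p.primeCompl) M) :=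
    Module.compHom _ (algebraMap (Localization.AtPrime p)
      (Localization (Algebra.algebraMapSubmonoid B p.primeCompl)))
  haveI : IsScalarTower (Localization.AtPrime p)
      (Localization (Algebra.algebraMapSubmonoid B p.primeCompl))
      (LocalizedModule (Algebra.algebraMapSubmonoid B p.primeCompl) M) :=
    IsScalarTower.of_algebraMap_smul (fun r m => rfl)
  haveI : IsScalarTower A (Localization.AtPrime p)
      (LocalizedModule (Algebra.algebraMapSubmonoid B p.primeCompl) M) := by
    apply IsScalarTower.of_algebraMap_smul
    intro r m
    change algebraMap (Localization.AtPrime p)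
      (Localization (Algebra.algebraMapSubmonoid B p.primeCompl))
      (algebraMap A (Localization.AtPrime p) r) • m = _
    rw [← IsScalarTower.algebraMap_apply A (Localization.AtPrime p)
      (Localization (Algebra.algebraMapSubmonoid B p.primeCompl)),
      IsScalarTower.algebraMap_apply A B
      (Localization (Algebra.algebraMapSubmonoid B p.primeCompl)), algebraMap_smul,
      algebraMap_smul]
  haveI : IsLocalizedModule p.primeCompl
      ((LocalizedModule.mkLinearMap (Algebra.algebraMapSubmonoid B p.primeCompl) M).restrictScalars
        A) :=
    IsLocalizedModule.restrictScalars p.primeCompl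
      (LocalizedModule.mkLinearMap (Algebra.algebraMapSubmonoid B p.primeCompl) M)
  have h1 := depth_eq_of_isLocalizedModule p M (Localization.AtPrime p)
    (LocalizedModule (Algebra.algebraMapSubmonoid B p.primeCompl) M)
    ((LocalizedModule.mkLinearMap (Algebra.algebraMapSubmonoid B p.primeCompl) M).restrictScalars
        A)
  rw [← h1]
  exact idealDepth_eq_idealDepth_map_of_finite (A := Localization.AtPrime p)
    (B := Localization (Algebra.algebraMapSubmonoid B p.primeCompl))
    (IsLocalRing.maximalIdeal (Localization.AtPrime p))
    (LocalizedModule (Algebra.algebraMapSubmonoid B p.primeCompl) M)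

omit [IsNoetherianRing A] [IsNoetherianRing B] [Module.Finite A B] in
/-- The extension to `B_p` of the maximal ideal of `A_p` is the extension of `p`. -/
theorem map_maximalIdeal_eq :
    (IsLocalRing.maximalIdeal (Localization.AtPrime p)).map
        (algebraMap (Localization.AtPrime p)
          (Localization (Algebra.algebraMapSubmonoid B p.primeCompl))) =
      (p.map (algebraMap A B)).map
        (algebraMap B (Localization (Algebra.algebraMapSubmonoid B p.primeCompl))) := by
  rw [← Localization.AtPrime.map_eq_maximalIdeal, Ideal.map_map, Ideal.map_map,
    ← IsScalarTower.algebraMap_eq, ← IsScalarTower.algebraMap_eq]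

/-- Depth does not drop when passing from `A_p` to the localization of `B` at a prime over `p`. -/
theorem depth_le_depth_of_comap_eq (p' : Ideal B) [p'.IsPrime]
    (hp' : p'.comap (algebraMap A B) = p) :
    LocCoh.depth (Localization.AtPrime p) (LocalizedModule p.primeCompl M) ≤
      LocCoh.depth (Localization.AtPrime p') (LocalizedModule p'.primeCompl M) := by
  rw [depth_localization_eq_idealDepth (B := B) M p]
  have hdisj : Disjoint (Algebra.algebraMapSubmonoid B p.primeCompl : Set B) (p' : Set B) := by
    rw [Set.disjoint_left]
    rintro _ ⟨a, ha, rfl⟩ hmem
    apply ha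
    rw [← hp']
    exact hmem
  haveI hPprime : (p'.map (algebraMap B
      (Localization (Algebra.algebraMapSubmonoid B p.primeCompl)))).IsPrime :=
    IsLocalization.isPrime_of_isPrime_disjoint (Algebra.algebraMapSubmonoid B p.primeCompl)
      _ p' inferInstance hdisj
  have hcomap : (p'.map (algebraMap B
      (Localization (Algebra.algebraMapSubmonoid B p.primeCompl)))).comap
      (algebraMap B (Localization (Algebra.algebraMapSubmonoid B p.primeCompl))) = p' :=
    IsLocalization.comap_map_of_isPrime_disjoint (Algebra.algebraMapSubmonoid B p.primeCompl)
      _ inferInstance hdisj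
  have hJP : (IsLocalRing.maximalIdeal (Localization.AtPrime p)).map
        (algebraMap (Localization.AtPrime p)
          (Localization (Algebra.algebraMapSubmonoid B p.primeCompl))) ≤
      p'.map (algebraMap B (Localization (Algebra.algebraMapSubmonoid B p.primeCompl))) := by
    rw [map_maximalIdeal_eq]
    apply Ideal.map_mono
    rw [Ideal.map_le_iff_le_comap, hp']
  have h1 := idealDepth_le_depth_localization _
    (LocalizedModule (Algebra.algebraMapSubmonoid B p.primeCompl) M)
    (p'.map (algebraMap B (Localization (Algebra.algebraMapSubmonoid B p.primeCompl)))) hJP
  refine le_trans h1 (le_of_eq ?_)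
  haveI : ((p'.map (algebraMap B
      (Localization (Algebra.algebraMapSubmonoid B p.primeCompl)))).comap
      (algebraMap B (Localization (Algebra.algebraMapSubmonoid B p.primeCompl)))).IsPrime := by
    rw [hcomap]; infer_instance
  rw [depth_localization_localization (Algebra.algebraMapSubmonoid B p.primeCompl) M
    (p'.map (algebraMap B (Localization (Algebra.algebraMapSubmonoid B p.primeCompl))))]
  exact depth_atPrime_congr M _ _ hcomap

/-- If the depth of `M_p` over `A_p` is at most `n`, some prime of `B` over `p` has the same
property. -/
theorem exists_comap_eq_depth_le (n : ℕ)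
    (h : LocCoh.depth (Localization.AtPrime p) (LocalizedModule p.primeCompl M) ≤ n) :
    ∃ p' : PrimeSpectrum B, p'.asIdeal.comap (algebraMap A B) = p ∧
      LocCoh.depth (Localization.AtPrime p'.asIdeal)
        (LocalizedModule p'.asIdeal.primeCompl M) ≤ n := by
  rw [depth_localization_eq_idealDepth (B := B) M p] at h
  have hJN : ((IsLocalRing.maximalIdeal (Localization.AtPrime p)).map
        (algebraMap (Localization.AtPrime p)
          (Localization (Algebra.algebraMapSubmonoid B p.primeCompl)))) •
      (⊤ : Submodule (Localization (Algebra.algebraMapSubmonoid B p.primeCompl))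
        (LocalizedModule (Algebra.algebraMapSubmonoid B p.primeCompl) M)) ≠ ⊤ := by
    intro htop
    rw [idealDepth_eq_top_of_smul_top_eq_top _ _ htop] at h
    exact absurd h (by simp)
  obtain ⟨P, hJP, hP⟩ := exists_prime_depth_localization_le _ n
    (LocalizedModule (Algebra.algebraMapSubmonoid B p.primeCompl) M) hJN h
  refine ⟨⟨P.asIdeal.comap (algebraMap B
    (Localization (Algebra.algebraMapSubmonoid B p.primeCompl))), inferInstance⟩, ?_, ?_⟩
  · change (P.asIdeal.comap (algebraMap B
      (Localization (Algebra.algebraMapSubmonoid B p.primeCompl)))).comap (algebraMap A B) = p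
    rw [Ideal.comap_comap, ← IsScalarTower.algebraMap_eq,
      IsScalarTower.algebraMap_eq A (Localization.AtPrime p)
        (Localization (Algebra.algebraMapSubmonoid B p.primeCompl)), ← Ideal.comap_comap]
    have hQ : P.asIdeal.comap (algebraMap (Localization.AtPrime p)
        (Localization (Algebra.algebraMapSubmonoid B p.primeCompl))) =
        IsLocalRing.maximalIdeal (Localization.AtPrime p) := by
      symm
      apply (IsLocalRing.maximalIdeal.isMaximal (Localization.AtPrime p)).eq_of_le
      · exact Ideal.IsPrime.ne_top inferInstance
      · rw [← Ideal.map_le_iff_le_comap]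
        exact hJP
    rw [hQ]
    exact Localization.AtPrime.comap_maximalIdeal
  · change LocCoh.depth (Localization.AtPrime (P.asIdeal.comap (algebraMap B
      (Localization (Algebra.algebraMapSubmonoid B p.primeCompl)))))
      (LocalizedModule (P.asIdeal.comap (algebraMap B
        (Localization (Algebra.algebraMapSubmonoid B p.primeCompl)))).primeCompl M) ≤ n
    rw [← depth_localization_localization (Algebra.algebraMapSubmonoid B p.primeCompl) M
      P.asIdeal]
    exact hP

end Semilocal

end Groth.Agent.Lib.Helper39.Cutoff
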