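import Groth.Agent.Lib.Helper73.DimFormula.Catenary
import Groth.Agent.Lib.Helper73.DimFormula.UnivCatenary
import Mathlib

/-!
Heights of primes in intervals of the prime spectrum, and their invariance under finite ring maps
out of a universally catenary ring.
-/

set_option autoImplicit false
universe u

namespace Groth.Agent.Lib.Helper39.Cutoff

open Algebra

section Ici

variable {A : Type u} [CommRing A]

/-- The height of `q` in the interval `[p, ∞)` of the prime spectrum is the height of the image
of `q` in `A ⧸ p`. -/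
theorem height_Ici_eq (p q : PrimeSpectrum A) (h : p ≤ q) :
    Order.height (⟨q, h⟩ : Set.Ici p) =
      (q.asIdeal.map (Ideal.Quotient.mk p.asIdeal)).height := by
  classical
  have hset : PrimeSpectrum.zeroLocus (p.asIdeal : Set A) = Set.Ici p := by
    ext x
    rw [PrimeSpectrum.mem_zeroLocus, Set.mem_Ici, ← PrimeSpectrum.asIdeal_le_asIdeal]
    rfl
  let e : PrimeSpectrum (A ⧸ p.asIdeal) ≃o Set.Ici p :=
    (p.asIdeal.primeSpectrumQuotientOrderIsoZeroLocus).trans (OrderIso.setCongr _ _ hset)
  have hq : e.symm ⟨q, h⟩ = ⟨q.asIdeal.map (Ideal.Quotient.mk p.asIdeal),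
      Ideal.map_isPrime_of_surjective Ideal.Quotient.mk_surjective
        (by rw [Ideal.mk_ker]; exact h)⟩ := by
    apply e.injective
    rw [OrderIso.apply_symm_apply]
    apply Subtype.ext
    apply PrimeSpectrum.ext
    change q.asIdeal = Ideal.comap (Ideal.Quotient.mk p.asIdeal)
      (q.asIdeal.map (Ideal.Quotient.mk p.asIdeal))
    rw [Ideal.comap_map_of_surjective _ Ideal.Quotient.mk_surjective, ← RingHom.ker_eq_comap_bot,
      Ideal.mk_ker]
    exact (sup_eq_left.mpr h).symm
  rw [← Order.height_orderIso e.symm ⟨q, h⟩, hq, ← PrimeSpectrum.height_eq_orderHeight]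

end Ici

section Finite

/-- Heights are preserved under contraction along a finite extension of domains with universally
catenary base. -/
theorem height_eq_of_finite_of_liesOver (R S : Type u) [CommRing R] [IsDomain R]
    (hR : CAlg.IsUniversallyCatenary R) [CommRing S] [IsDomain S] [Algebra R S]
    [FaithfulSMul R S] [Module.Finite R S] (q : Ideal R) [q.IsPrime] (Q : Ideal S) [Q.IsPrime]
    [Q.LiesOver q] : Q.height = q.height := by
  have : IsNoetherianRing R := hR.1
  have h := Groth.Agent.Lib.Helper73.dimFormula_eq R hR S q Q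
  rw [trdeg_eq_zero, trdeg_eq_zero, add_zero, add_zero] at h
  exact Cardinal.ofENat_inj.1 h

variable {A B : Type u} [CommRing A] [CommRing B] [Algebra A B]

theorem comap_le_comap {p' q' : PrimeSpectrum B} (h' : p' ≤ q') :
    PrimeSpectrum.comap (algebraMap A B) p' ≤ PrimeSpectrum.comap (algebraMap A B) q' := by
  rw [← PrimeSpectrum.asIdeal_le_asIdeal]
  exact Ideal.comap_mono h'

variable [Module.Finite A B]

/-- For a finite ring map out of a universally catenary ring, the height of `q'` over `p'`
equals the height of the contraction of `q'` over the contraction of `p'`. -/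
theorem height_Ici_comap_eq (hA : CAlg.IsUniversallyCatenary A) (p' q' : PrimeSpectrum B)
    (h' : p' ≤ q') :
    Order.height (⟨q', h'⟩ : Set.Ici p') =
      Order.height (⟨PrimeSpectrum.comap (algebraMap A B) q', comap_le_comap h'⟩ :
        Set.Ici (PrimeSpectrum.comap (algebraMap A B) p')) := by
  rw [height_Ici_eq, height_Ici_eq]
  set p : Ideal A := (PrimeSpectrum.comap (algebraMap A B) p').asIdeal with hp
  set q : Ideal A := (PrimeSpectrum.comap (algebraMap A B) q').asIdeal with hq
  have : p.IsPrime := (PrimeSpectrum.comap (algebraMap A B) p').isPrime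
  have : q.IsPrime := (PrimeSpectrum.comap (algebraMap A B) q').isPrime
  have hpq : p ≤ q := comap_le_comap (A := A) h'
  have hpq' : p'.asIdeal ≤ q'.asIdeal := h'
  have : p'.asIdeal.LiesOver p := ⟨rfl⟩
  have hQprime : (q'.asIdeal.map (Ideal.Quotient.mk p'.asIdeal)).IsPrime :=
    Ideal.map_isPrime_of_surjective Ideal.Quotient.mk_surjective
      (by rw [Ideal.mk_ker]; exact hpq')
  have hqprime : (q.map (Ideal.Quotient.mk p)).IsPrime :=
    Ideal.map_isPrime_of_surjective Ideal.Quotient.mk_surjective
      (by rw [Ideal.mk_ker]; exact hpq)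
  have : (q'.asIdeal.map (Ideal.Quotient.mk p'.asIdeal)).LiesOver
      (q.map (Ideal.Quotient.mk p)) := by
    constructor
    ext x
    obtain ⟨a, rfl⟩ := Ideal.Quotient.mk_surjective x
    rw [Ideal.under, Ideal.mem_comap, Ideal.Quotient.algebraMap_mk_of_liesOver,
      Ideal.mem_quotient_iff_mem hpq', Ideal.mem_quotient_iff_mem hpq]
    rfl
  exact height_eq_of_finite_of_liesOver (A ⧸ p) (B ⧸ p'.asIdeal)
    (Groth.Agent.Lib.Helper73.isUniversallyCatenary_quotient hA p)
    (q.map (Ideal.Quotient.mk p)) (q'.asIdeal.map (Ideal.Quotient.mk p'.asIdeal))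

end Finite

end Groth.Agent.Lib.Helper39.Cutoff
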