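import Groth.Agent.Lib.Helper39.Cutoff.Height
import Groth.Agent.Lib.Helper39.Cutoff.Depth
import Groth.Prelude.Def_DualLC

/-!
The cutoff invariant `s_{A,I}(M)` is unchanged under a finite ring map out of a universally
catenary ring.
-/

set_option autoImplicit false
universe u

namespace Groth.Agent.Lib.Helper39.Cutoff

theorem height_Ici_congr {A : Type u} [CommRing A] (p₁ p₂ q₁ q₂ : PrimeSpectrum A)
    (hp : p₁ = p₂) (hq : q₁ = q₂) (h₁ : p₁ ≤ q₁) (h₂ : p₂ ≤ q₂) :
    Order.height (⟨q₁, h₁⟩ : Set.Ici p₁) = Order.height (⟨q₂, h₂⟩ : Set.Ici p₂) := by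
  subst hp
  subst hq
  rfl

theorem depth_congr_point {A : Type u} [CommRing A] (M : Type u) [AddCommGroup M] [Module A M]
    (p₁ p₂ : PrimeSpectrum A) (hp : p₁ = p₂) :
    LocCoh.depth (Localization.AtPrime p₁.asIdeal) (LocalizedModule p₁.asIdeal.primeCompl M) =
      LocCoh.depth (Localization.AtPrime p₂.asIdeal)
        (LocalizedModule p₂.asIdeal.primeCompl M) := by
  subst hp
  rfl

theorem cutoff_eq_of_finite (A B : Type u) [CommRing A] [CommRing B] [Algebra A B]
    [IsNoetherianRing A] [IsNoetherianRing B] [Module.Finite A B]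
    (hA : CAlg.IsUniversallyCatenary A) (I : Ideal A) (M : Type u) [AddCommGroup M] [Module B M]
    [Module A M] [IsScalarTower A B M] [Module.Finite B M] :
    Dual2.cutoff B (I.map (algebraMap A B)) M = Dual2.cutoff A I M := by
  apply le_antisymm
  · -- `cutoff B ≤ cutoff A`
    unfold Dual2.cutoff
    refine le_iInf fun p => le_iInf fun q => le_iInf fun h => le_iInf fun hIp =>
      le_iInf fun hIq => ?_
    by_cases htop : LocCoh.depth (Localization.AtPrime p.asIdeal)
        (LocalizedModule p.asIdeal.primeCompl M) = ⊤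
    · rw [htop, top_add]
      exact le_top
    · obtain ⟨n, hn⟩ := ENat.ne_top_iff_exists.mp htop
      obtain ⟨p', hp'comap, hp'depth⟩ :=
        exists_comap_eq_depth_le (B := B) M p.asIdeal n (le_of_eq hn.symm)
      obtain ⟨Q, hQle, hQprime, hQcomap⟩ :=
        Ideal.exists_ideal_over_prime_of_isIntegral q.asIdeal p'.asIdeal
          (by rw [hp'comap]; exact h)
      have hp'eq : PrimeSpectrum.comap (algebraMap A B) p' = p := PrimeSpectrum.ext hp'comap
      have hQeq : PrimeSpectrum.comap (algebraMap A B) ⟨Q, hQprime⟩ = q :=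
        PrimeSpectrum.ext hQcomap
      have hle' : p' ≤ (⟨Q, hQprime⟩ : PrimeSpectrum B) := hQle
      have hIp' : ¬ I.map (algebraMap A B) ≤ p'.asIdeal := by
        intro hle
        apply hIp
        rw [← hp'comap, ← Ideal.map_le_iff_le_comap]
        exact hle
      have hIQ : I.map (algebraMap A B) ≤ (⟨Q, hQprime⟩ : PrimeSpectrum B).asIdeal := by
        rw [Ideal.map_le_iff_le_comap]
        change I ≤ Q.comap (algebraMap A B)
        rw [hQcomap]
        exact hIq
      refine le_trans (iInf_le_of_le p' (iInf_le_of_le ⟨Q, hQprime⟩ (iInf_le_of_le hle'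
        (iInf_le_of_le hIp' (iInf_le _ hIQ))))) ?_
      rw [← hn]
      refine add_le_add hp'depth (le_of_eq ?_)
      rw [height_Ici_comap_eq hA p' ⟨Q, hQprime⟩ hle']
      exact height_Ici_congr _ _ _ _ hp'eq hQeq _ _
  · -- `cutoff A ≤ cutoff B`
    unfold Dual2.cutoff
    refine le_iInf fun p' => le_iInf fun q' => le_iInf fun h' => le_iInf fun hIp' =>
      le_iInf fun hIq' => ?_
    have hIp : ¬ I ≤ (PrimeSpectrum.comap (algebraMap A B) p').asIdeal := by
      intro hle
      apply hIp'
      rw [Ideal.map_le_iff_le_comap]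
      exact hle
    have hIq : I ≤ (PrimeSpectrum.comap (algebraMap A B) q').asIdeal := by
      change I ≤ q'.asIdeal.comap (algebraMap A B)
      rw [← Ideal.map_le_iff_le_comap]
      exact hIq'
    refine le_trans (iInf_le_of_le (PrimeSpectrum.comap (algebraMap A B) p')
      (iInf_le_of_le (PrimeSpectrum.comap (algebraMap A B) q')
        (iInf_le_of_le (comap_le_comap h') (iInf_le_of_le hIp (iInf_le _ hIq))))) ?_
    refine add_le_add ?_ (le_of_eq (height_Ici_comap_eq hA p' q' h').symm)
    exact depth_le_depth_of_comap_eq M (PrimeSpectrum.comap (algebraMap A B) p').asIdeal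
      p'.asIdeal rfl

end Groth.Agent.Lib.Helper39.Cutoff
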